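import Mathlib

/-!
# Point counts of finitely generated `ℤ`-algebras in finite fields
-/

set_option linter.style.haveILetI false

open Polynomial TensorProduct

namespace Groth.Agent.ZetaPts

section Count

variable {P A F : Type*} [CommRing P] [CommRing A] [Field F]

/-- Homomorphisms determined by their restriction to `P` and the values on `T`, with each `φ t`
a root of a nonzero specialised polynomial of degree `≤ (q t).natDegree`. -/
theorem card_hom_le (ι : P →+* A) (T : Finset A)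
    (hT : ∀ φ ψ : A →+* F, φ.comp ι = ψ.comp ι → (∀ t ∈ T, φ t = ψ t) → φ = ψ)
    (q : A → P[X]) (hne : ∀ θ : P →+* F, ∀ t ∈ T, (q t).map θ ≠ 0)
    (hroot : ∀ φ : A →+* F, ∀ t ∈ T, ((q t).map (φ.comp ι)).eval (φ t) = 0)
    [Finite (P →+* F)] :
    Finite (A →+* F) ∧
      Nat.card (A →+* F) ≤ Nat.card (P →+* F) * ∏ t ∈ T, (q t).natDegree := by
  classical
  let R : (P →+* F) → T → Set F := fun θ t => {x | ((q t.1).map θ).eval x = 0}
  have hR : ∀ θ t, (R θ t).Finite ∧ (R θ t).ncard ≤ (q t.1).natDegree := by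
    intro θ t
    have h0 := hne θ t.1 t.2
    have hsub : R θ t ⊆ ↑((q t.1).map θ).roots.toFinset := fun x hx => by
      simp only [Finset.mem_coe, Multiset.mem_toFinset, mem_roots h0]; exact hx
    refine ⟨(Finset.finite_toSet _).subset hsub, ?_⟩
    refine (Set.ncard_le_ncard hsub (Finset.finite_toSet _)).trans ?_
    rw [Set.ncard_coe_finset]
    exact ((Multiset.toFinset_card_le _).trans (card_roots' _)).trans natDegree_map_le
  haveI : ∀ θ t, Finite (R θ t) := fun θ t => (hR θ t).1.to_subtype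
  let Φ : (A →+* F) → Σ θ : P →+* F, ∀ t : T, R θ t :=
    fun φ => ⟨φ.comp ι, fun t => ⟨φ t.1, hroot φ t.1 t.2⟩⟩
  have hΦ : Function.Injective Φ := by
    intro φ ψ h
    have h1 : φ.comp ι = ψ.comp ι := congrArg Sigma.fst h
    refine hT φ ψ h1 fun t ht => ?_
    have := congrArg (fun z : Σ θ : P →+* F, ∀ t : T, R θ t => ((z.2 ⟨t, ht⟩ : R z.1 ⟨t, ht⟩) : F)) h
    exact this
  refine ⟨Finite.of_injective Φ hΦ, (Nat.card_le_card_of_injective Φ hΦ).trans ?_⟩
  haveI := Fintype.ofFinite (P →+* F)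
  rw [Nat.card_sigma]
  refine (Finset.sum_le_card_nsmul _ _ (∏ t ∈ T, (q t).natDegree) fun θ _ => ?_).trans ?_
  · rw [Nat.card_pi, ← Finset.prod_coe_sort T]
    exact Finset.prod_le_prod' fun t _ => by
      rw [Nat.card_coe_set_eq]; exact (hR θ t).2
  · rw [Finset.card_univ, smul_eq_mul, Nat.card_eq_fintype_card]

theorem finite_mvPoly_hom (s : ℕ) [Finite F] :
    Finite (MvPolynomial (Fin s) ℤ →+* F) ∧
      Nat.card (MvPolynomial (Fin s) ℤ →+* F) ≤ Nat.card F ^ s := by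
  let Φ : (MvPolynomial (Fin s) ℤ →+* F) → (Fin s → F) := fun θ i => θ (MvPolynomial.X i)
  have hΦ : Function.Injective Φ := fun θ θ' h =>
    MvPolynomial.ringHom_ext (fun n => by simp [map_intCast])
      (congrFun h)
  refine ⟨Finite.of_injective Φ hΦ, (Nat.card_le_card_of_injective Φ hΦ).trans ?_⟩
  rw [Nat.card_fun, Nat.card_fin]

end Count

instance isJacobsonRing_int : IsJacobsonRing ℤ := by
  rw [isJacobsonRing_iff_prime_eq]
  intro P hP
  refine le_antisymm (fun x hx => ?_) Ideal.le_jacobson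
  by_cases hP0 : P = ⊥
  · subst hP0
    obtain ⟨p, hxp, hp⟩ := Nat.exists_infinite_primes (x.natAbs + 1)
    haveI := Fact.mk hp
    have hmax : (Ideal.span {(p : ℤ)}).IsMaximal :=
      PrincipalIdealRing.isMaximal_of_irreducible (Nat.prime_iff_prime_int.1 hp).irreducible
    have hmem : x ∈ Ideal.span {(p : ℤ)} :=
      (Ideal.mem_sInf.1 hx) ⟨bot_le, hmax⟩
    rw [Ideal.mem_span_singleton, Int.natCast_dvd] at hmem
    rw [Ideal.mem_bot, ← Int.natAbs_eq_zero]
    exact Nat.eq_zero_of_dvd_of_lt hmem (by omega)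
  · haveI : P.IsMaximal := hP.isMaximal hP0
    rwa [Ideal.jacobson_eq_self_of_isMaximal] at hx

theorem finite_residue_of_isMaximal {A : Type*} [CommRing A] [Algebra.FiniteType ℤ A]
    (m : Ideal A) [m.IsMaximal] : Finite (A ⧸ m) := by
  letI := Ideal.Quotient.field m
  haveI : Algebra.FiniteType ℤ (A ⧸ m) :=
    Algebra.FiniteType.of_surjective (Ideal.Quotient.mkₐ ℤ m) Ideal.Quotient.mk_surjective
  haveI : IsJacobsonRing ℤ := isJacobsonRing_int
  haveI : Module.Finite ℤ (A ⧸ m) := finite_of_finite_type_of_isJacobsonRing ℤ (A ⧸ m)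
  haveI : Algebra.IsIntegral ℤ (A ⧸ m) := Algebra.IsIntegral.of_finite ℤ (A ⧸ m)
  have hni : ¬ Function.Injective (algebraMap ℤ (A ⧸ m)) := fun h =>
    Int.not_isField (isField_of_isIntegral_of_isField h (Field.toIsField (A ⧸ m)))
  obtain ⟨p, hp⟩ := CharP.exists (A ⧸ m)
  have hp0 : p ≠ 0 := by
    rintro rfl
    haveI : CharP (A ⧸ m) 0 := hp
    haveI := CharP.charP_to_charZero (A ⧸ m)
    exact hni fun a b hab => Int.cast_injective (α := A ⧸ m) (by simpa using hab)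
  refine Module.finite_of_fg_torsion _ fun x => ?_
  refine ⟨⟨(p : ℤ), mem_nonZeroDivisors_of_ne_zero (by exact_mod_cast hp0)⟩, ?_⟩
  show (p : ℤ) • x = 0
  rw [zsmul_eq_mul, Int.cast_natCast, CharP.cast_eq_zero, zero_mul]

theorem exists_prime_mem_of_isMaximal {A : Type*} [CommRing A] [Algebra.FiniteType ℤ A]
    (m : Ideal A) [m.IsMaximal] : ∃ p : ℕ, p.Prime ∧ (p : A) ∈ m := by
  haveI := finite_residue_of_isMaximal m
  obtain ⟨p, hp⟩ := CharP.exists (A ⧸ m)
  haveI := Fintype.ofFinite (A ⧸ m)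
  refine ⟨p, (CharP.char_is_prime_or_zero (A ⧸ m) p).resolve_right (fun h0 => ?_), ?_⟩
  · subst h0
    haveI := CharP.charP_to_charZero (A ⧸ m)
    exact not_finite (A ⧸ m)
  · rw [← Ideal.Quotient.eq_zero_iff_mem, map_natCast, CharP.cast_eq_zero]

theorem ringKrullDim_le_of_integral_injective {P B : Type*} [CommRing P] [CommRing B]
    (g : P →+* B) (hg : Function.Injective g) (hi : g.IsIntegral) :
    ringKrullDim P ≤ ringKrullDim B := by
  algebraize [g]
  haveI : Algebra.IsIntegral P B := ⟨hi⟩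
  refine iSup_le fun c => ?_
  suffices h : ∀ n, ∀ c : LTSeries (PrimeSpectrum P), c.length = n →
      ∃ d : LTSeries (PrimeSpectrum B), d.length = n ∧
        Ideal.comap g d.last.asIdeal = c.last.asIdeal by
    obtain ⟨d, hd, -⟩ := h _ c rfl
    rw [← hd]
    exact le_iSup (fun e : LTSeries (PrimeSpectrum B) => (e.length : WithBot ℕ∞)) d
  intro n
  induction n with
  | zero =>
    intro c hc
    obtain ⟨Q, -, hQ, hQc⟩ := Ideal.exists_ideal_over_prime_of_isIntegral (S := B)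
      c.last.asIdeal ⊥ (by
        rw [show Ideal.comap (algebraMap P B) ⊥ = RingHom.ker g from rfl,
          (RingHom.injective_iff_ker_eq_bot g).1 hg]
        exact bot_le)
    exact ⟨RelSeries.singleton _ ⟨Q, hQ⟩, rfl, hQc⟩
  | succ n ih =>
    intro c hc
    have hne : c.length ≠ 0 := by omega
    obtain ⟨d, hd, hdc⟩ := ih c.eraseLast (by simp [hc])
    have hlt : c.eraseLast.last < c.last := c.eraseLast_last_rel_last hne
    obtain ⟨Q, hle, hQ, hQc⟩ := Ideal.exists_ideal_over_prime_of_isIntegral (S := B)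
      c.last.asIdeal d.last.asIdeal (hdc.trans_le hlt.le)
    have hstrict : d.last < (⟨Q, hQ⟩ : PrimeSpectrum B) := by
      refine lt_of_le_of_ne hle fun h => hlt.ne ?_
      refine PrimeSpectrum.ext ?_
      have hQc' : Ideal.comap g Q = c.last.asIdeal := hQc
      rw [← hdc, h, hQc']
    exact ⟨d.snoc _ hstrict, by simp [hd], by rw [RelSeries.last_snoc]; exact hQc⟩

section Main

variable (A : Type*) [CommRing A] [Algebra.FiniteType ℤ A]

/-- Integral lift up to a unit scalar of a polynomial over a prime field. -/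
theorem exists_lift_smul (k : Type*) [Field k] (hk : ∀ c : k, ∃ M : ℤ, (M : k) ≠ 0 ∧ ∃ z : ℤ, (M : k) * c = z)
    {s : ℕ} (f : MvPolynomial (Fin s) k) :
    ∃ M : ℤ, (M : k) ≠ 0 ∧ ∃ g : MvPolynomial (Fin s) ℤ,
      MvPolynomial.map (Int.castRingHom k) g = (M : MvPolynomial (Fin s) k) * f := by
  induction f using MvPolynomial.induction_on with
  | C c =>
    obtain ⟨M, hM, z, hz⟩ := hk c
    exact ⟨M, hM, MvPolynomial.C z, by
      rw [MvPolynomial.map_C, ← map_intCast (MvPolynomial.C (R := k)) M, ← map_mul, hz]; rfl⟩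
  | add p q hp hq =>
    obtain ⟨M, hM, g, hg⟩ := hp
    obtain ⟨M', hM', g', hg'⟩ := hq
    refine ⟨M * M', by push_cast; exact mul_ne_zero hM hM', M' * g + M * g', ?_⟩
    simp only [map_add, map_mul, map_intCast, hg, hg', Int.cast_mul]
    ring
  | mul_X p i hp =>
    obtain ⟨M, hM, g, hg⟩ := hp
    exact ⟨M, hM, g * MvPolynomial.X i, by rw [map_mul, hg, MvPolynomial.map_X, mul_assoc]⟩

theorem exists_lift_smul_monic (k : Type*) [Field k]
    (hk : ∀ c : k, ∃ M : ℤ, (M : k) ≠ 0 ∧ ∃ z : ℤ, (M : k) * c = z)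
    {s : ℕ} (f : (MvPolynomial (Fin s) k)[X]) (hf : f.Monic) :
    ∃ M : ℤ, (M : k) ≠ 0 ∧ ∃ q : (MvPolynomial (Fin s) ℤ)[X], q.natDegree ≤ f.natDegree ∧
      q.coeff f.natDegree = (M : MvPolynomial (Fin s) ℤ) ∧
      q.map (MvPolynomial.map (Int.castRingHom k)) = (M : (MvPolynomial (Fin s) k)[X]) * f := by
  classical
  choose Mi hMi gi hgi using fun i => exists_lift_smul k hk (f.coeff i)
  set e := f.natDegree with he
  set M := ∏ i ∈ Finset.range e, Mi i with hMdef
  refine ⟨M, by rw [hMdef, Int.cast_prod]; exact Finset.prod_ne_zero_iff.2 fun i _ => hMi i, ?_⟩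
  let co : ℕ → MvPolynomial (Fin s) ℤ := fun i =>
    ((∏ j ∈ (Finset.range e).erase i, Mi j : ℤ) : MvPolynomial (Fin s) ℤ) * gi i
  refine ⟨monomial e (M : MvPolynomial (Fin s) ℤ) + ∑ i ∈ Finset.range e, monomial i (co i), ?_, ?_, ?_⟩
  · refine (natDegree_add_le _ _).trans (max_le (natDegree_monomial_le _) ?_)
    refine (natDegree_sum_le _ _).trans ?_
    simp only [Finset.fold_max_le, Function.comp]
    exact ⟨Nat.zero_le _, fun i hi => (natDegree_monomial_le _).trans (Finset.mem_range.1 hi).le⟩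
  · simp [coeff_monomial, finset_sum_coeff]
  · rw [Polynomial.map_add, Polynomial.map_sum, map_monomial, map_intCast]
    conv_rhs => rw [f.as_sum_range_C_mul_X_pow, ← he]
    rw [Finset.sum_range_succ]
    rw [show f.coeff e = 1 from hf, mul_add, Finset.mul_sum, add_comm]
    congr 1
    · refine Finset.sum_congr rfl fun i hi => ?_
      rw [map_monomial, map_mul, map_intCast, hgi, ← mul_assoc, ← Int.cast_mul,
        Finset.prod_erase_mul _ _ hi, ← hMdef, ← C_mul_X_pow_eq_monomial, map_mul, map_intCast,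
        mul_assoc]
    · rw [← C_mul_X_pow_eq_monomial, map_one, one_mul, map_intCast]

/-- Common core: `k` a prime field, `B = k ⊗ A` of dimension `≤ d`. -/
theorem exists_bound_of_tensor (k : Type*) [Field k]
    (hk : ∀ c : k, ∃ M : ℤ, (M : k) ≠ 0 ∧ ∃ z : ℤ, (M : k) * c = z)
    (hsurj : ∀ b : k ⊗[ℤ] A, ∃ M : ℤ, (M : k) ≠ 0 ∧ ∃ a : A, (1 : k) ⊗ₜ[ℤ] a = M • b)
    (d : ℕ) (hd : ringKrullDim (k ⊗[ℤ] A) ≤ d) :
    ∃ (c : ℕ) (Ns : List ℤ) (X : List A), (∀ N ∈ Ns, (N : k) ≠ 0) ∧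
      (∀ x ∈ X, (1 : k) ⊗ₜ[ℤ] x = 0) ∧
      ∀ (F : Type*) [Field F] [Finite F], (∀ N ∈ Ns, (N : F) ≠ 0) →
        (∀ x ∈ X, ∀ φ : A →+* F, φ x = 0) →
        Finite (A →+* F) ∧ Nat.card (A →+* F) ≤ c * Nat.card F ^ d := by
  classical
  let B := k ⊗[ℤ] A
  let h : A →+* B := (Algebra.TensorProduct.includeRight : A →ₐ[ℤ] B).toRingHom
  have hh : ∀ a, h a = (1 : k) ⊗ₜ[ℤ] a := fun a => rfl
  rcases subsingleton_or_nontrivial B with hB | hB
  · refine ⟨0, [], [1], by simp, fun x _ => Subsingleton.elim (α := B) _ _, fun F _ _ _ hx => ?_⟩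
    haveI : IsEmpty (A →+* F) := ⟨fun φ => one_ne_zero ((map_one φ).symm.trans (hx 1 (by simp) φ))⟩
    exact ⟨inferInstance, by simp⟩
  obtain ⟨s, g, hginj, hgint⟩ := exists_integral_inj_algHom_of_fg k B
  have hs : s ≤ d := by
    have h1 := (ringKrullDim_le_of_integral_injective g.toRingHom hginj hgint).trans hd
    rw [MvPolynomial.ringKrullDim_of_isNoetherianRing, ringKrullDim_eq_zero_of_field, zero_add,
      Nat.card_fin] at h1
    exact_mod_cast h1
  choose My hMy y hy using fun i : Fin s => hsurj (g (MvPolynomial.X i))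
  let σ : MvPolynomial (Fin s) k →ₐ[k] MvPolynomial (Fin s) k :=
    MvPolynomial.aeval fun i => MvPolynomial.C (My i : k) * MvPolynomial.X i
  let τ : MvPolynomial (Fin s) k →ₐ[k] MvPolynomial (Fin s) k :=
    MvPolynomial.aeval fun i => MvPolynomial.C (My i : k)⁻¹ * MvPolynomial.X i
  have hστ : ∀ f, σ (τ f) = f := by
    intro f
    have : σ.comp τ = AlgHom.id k _ := MvPolynomial.algHom_ext fun i => by
      simp only [σ, τ, AlgHom.comp_apply, MvPolynomial.aeval_X, map_mul,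
        MvPolynomial.aeval_C, MvPolynomial.algebraMap_eq, AlgHom.id_apply]
      rw [← mul_assoc, ← map_mul, inv_mul_cancel₀ (hMy i), map_one, one_mul]
    exact congrArg (fun w : _ →ₐ[k] _ => w f) this
  let ι : MvPolynomial (Fin s) ℤ →+* A := MvPolynomial.eval₂Hom (Int.castRingHom A) y
  have hι : h.comp ι = (g.comp σ).toRingHom.comp (MvPolynomial.map (Int.castRingHom k)) := by
    refine MvPolynomial.ringHom_ext (fun n => ?_) fun i => ?_
    · simp [ι, map_intCast]
    · simp only [ι, RingHom.comp_apply, MvPolynomial.eval₂Hom_X', MvPolynomial.map_X]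
      rw [hh, hy i]
      simp [σ, zsmul_eq_mul]
  obtain ⟨T, hTtop⟩ := (Algebra.FiniteType.out : (⊤ : Subalgebra ℤ A).FG)
  have hrel : ∀ t : A, ∃ (q : (MvPolynomial (Fin s) ℤ)[X]) (M : ℤ) (e : ℕ), (M : k) ≠ 0 ∧
      q.coeff e = (M : MvPolynomial (Fin s) ℤ) ∧ (1 : k) ⊗ₜ[ℤ] ((q.map ι).eval t) = 0 := by
    intro t
    obtain ⟨f, hf, hfe⟩ := hgint (h t)
    obtain ⟨M, hM, q, -, hqe, hq⟩ := exists_lift_smul_monic k hk
      (f.map τ.toRingHom) (hf.map _)
    refine ⟨q, M, _, hM, hqe, ?_⟩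
    rw [← hh, Polynomial.eval_map, Polynomial.hom_eval₂, hι, ← Polynomial.eval₂_map, hq,
      Polynomial.eval₂_mul, Polynomial.eval₂_map]
    have : (g.comp σ).toRingHom.comp τ.toRingHom = g.toRingHom := by
      ext <;> simp [hστ]
    rw [this, hfe, mul_zero]
  choose q M e hM hqe hq0 using hrel
  refine ⟨∏ t ∈ T, (q t).natDegree, T.toList.map M, T.toList.map (fun t => ((q t).map ι).eval t),
    ?_, ?_, fun F _ _ hN hX => ?_⟩
  · simp only [List.mem_map, Finset.mem_toList]; rintro N ⟨t, -, rfl⟩; exact hM t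
  · simp only [List.mem_map, Finset.mem_toList]; rintro N ⟨t, -, rfl⟩; exact hq0 t
  haveI := (finite_mvPoly_hom (F := F) s).1
  obtain ⟨h1, h2⟩ := card_hom_le (F := F) ι T
    (fun φ ψ _ hT' => by
      have : φ.toIntAlgHom = ψ.toIntAlgHom := AlgHom.ext_of_adjoin_eq_top hTtop hT'
      exact RingHom.ext fun x => congrArg (fun w : A →ₐ[ℤ] F => w x) this)
    q
    (fun θ t ht hz => by
      apply hN (M t) (List.mem_map.2 ⟨t, Finset.mem_toList.2 ht, rfl⟩)
      have := congrArg (fun p => p.coeff (e t)) hz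
      simpa [Polynomial.coeff_map, hqe t] using this)
    (fun φ t ht => by
      have := hX _ (List.mem_map.2 ⟨t, Finset.mem_toList.2 ht, rfl⟩) φ
      rwa [Polynomial.eval_map, Polynomial.hom_eval₂, ← Polynomial.eval_map] at this)
  refine ⟨h1, h2.trans ?_⟩
  rw [mul_comm]
  exact Nat.mul_le_mul_left _ ((finite_mvPoly_hom (F := F) s).2.trans
    (Nat.pow_le_pow_right Nat.card_pos hs))

theorem exists_bound_charP (p : ℕ) [Fact p.Prime] (r : ℕ) (hr : ringKrullDim A ≤ r) :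
    ∃ c : ℕ, ∀ (F : Type*) [Field F] [Finite F] [CharP F p],
      Finite (A →+* F) ∧ Nat.card (A →+* F) ≤ c * Nat.card F ^ r := by
  have hs : Function.Surjective
      (Algebra.TensorProduct.includeRight : A →ₐ[ℤ] ZMod p ⊗[ℤ] A) := by
    intro b
    induction b using TensorProduct.induction_on with
    | zero => exact ⟨0, map_zero _⟩
    | tmul c a =>
      obtain ⟨z, rfl⟩ := ZMod.intCast_surjective c
      refine ⟨z • a, ?_⟩
      rw [Algebra.TensorProduct.includeRight_apply, TensorProduct.tmul_smul,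
        TensorProduct.smul_tmul', zsmul_one]
    | add x y hx hy =>
      obtain ⟨a, rfl⟩ := hx
      obtain ⟨a', rfl⟩ := hy
      exact ⟨a + a', map_add _ _ _⟩
  obtain ⟨c, Ns, X, hNs, hX, h⟩ := exists_bound_of_tensor A (ZMod p)
    (fun c => ⟨1, by simp, (ZMod.intCast_surjective c).choose, by
      simp [(ZMod.intCast_surjective c).choose_spec]⟩)
    (fun b => ⟨1, by simp, (hs b).choose, by rw [one_smul]; exact (hs b).choose_spec⟩)
    r ((ringKrullDim_le_of_surjective _ hs).trans hr)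
  refine ⟨c, fun F _ _ _ => h F (fun N hN h0 => hNs N hN ?_) (fun x hx φ => ?_)⟩
  · rw [CharP.intCast_eq_zero_iff (ZMod p) p]
    exact (CharP.intCast_eq_zero_iff F p N).1 h0
  · let L : ZMod p ⊗[ℤ] A →ₐ[ℤ] F := Algebra.TensorProduct.lift
      (ZMod.castHom dvd_rfl F).toIntAlgHom φ.toIntAlgHom fun _ _ => Commute.all _ _
    have := congrArg L (hX x hx)
    rw [map_zero, Algebra.TensorProduct.lift_tmul, map_one, one_mul] at this
    exact this

omit [Algebra.FiniteType ℤ A] in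
theorem exists_smul_of_rat (b : ℚ ⊗[ℤ] A) :
    ∃ M : ℤ, (M : ℚ) ≠ 0 ∧ ∃ a : A, (1 : ℚ) ⊗ₜ[ℤ] a = M • b := by
  induction b using TensorProduct.induction_on with
  | zero => exact ⟨1, by simp, 0, by simp⟩
  | tmul c a =>
    refine ⟨c.den, by simp [c.den_ne_zero], c.num • a, ?_⟩
    rw [TensorProduct.tmul_smul, TensorProduct.smul_tmul', TensorProduct.smul_tmul', zsmul_one,
      zsmul_eq_mul, Int.cast_natCast, Rat.den_mul_eq_num]
  | add x y hx hy =>
    obtain ⟨M, hM, a, ha⟩ := hx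
    obtain ⟨M', hM', a', ha'⟩ := hy
    refine ⟨M * M', by push_cast; exact mul_ne_zero hM hM', M' • a + M • a', ?_⟩
    rw [TensorProduct.tmul_add, TensorProduct.tmul_smul, TensorProduct.tmul_smul, ha, ha',
      smul_add, smul_smul, smul_smul, mul_comm M' M]

omit [Algebra.FiniteType ℤ A] in
theorem exists_intMul_eq_zero_of_rat (x : A) (hx : (1 : ℚ) ⊗ₜ[ℤ] x = 0) :
    ∃ N : ℤ, N ≠ 0 ∧ (N : A) * x = 0 := by
  haveI hl : IsLocalizedModule (nonZeroDivisors ℤ) (TensorProduct.mk ℤ ℚ A 1) :=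
    (isLocalizedModule_iff_isBaseChange (nonZeroDivisors ℤ) ℚ _).2 (TensorProduct.isBaseChange ℤ A ℚ)
  obtain ⟨N, hN⟩ := (IsLocalizedModule.eq_zero_iff (nonZeroDivisors ℤ)
    (TensorProduct.mk ℤ ℚ A 1)).1 hx
  refine ⟨N, nonZeroDivisors.ne_zero N.2, ?_⟩
  rw [← zsmul_eq_mul]
  exact hN

theorem ringKrullDim_rat_add_one_le [Nontrivial (ℚ ⊗[ℤ] A)] :
    ringKrullDim (ℚ ⊗[ℤ] A) + 1 ≤ ringKrullDim A := by
  let h : A →+* ℚ ⊗[ℤ] A :=
    (Algebra.TensorProduct.includeRight : A →ₐ[ℤ] ℚ ⊗[ℤ] A).toRingHom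
  let f : PrimeSpectrum (ℚ ⊗[ℤ] A) → PrimeSpectrum A := PrimeSpectrum.comap h
  have hsm : StrictMono f := by
    intro P Q hPQ
    refine lt_of_le_of_ne (Ideal.comap_mono hPQ.le) fun he => hPQ.not_ge fun b hb => ?_
    obtain ⟨M, hM, a, ha⟩ := exists_smul_of_rat A b
    have hu : IsUnit ((M : ℚ ⊗[ℤ] A)) := by
      rw [← map_intCast (algebraMap ℚ (ℚ ⊗[ℤ] A))]
      exact (isUnit_iff_ne_zero.2 hM).map _
    have h1 : a ∈ (f Q).asIdeal := by
      show (1 : ℚ) ⊗ₜ[ℤ] a ∈ Q.asIdeal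
      rw [ha, zsmul_eq_mul]
      exact Q.asIdeal.mul_mem_left _ hb
    rw [← he] at h1
    have h2 : (M : ℚ ⊗[ℤ] A) * b ∈ P.asIdeal := by
      rw [← zsmul_eq_mul, ← ha]; exact h1
    exact (Ideal.unit_mul_mem_iff_mem _ hu).1 h2
  haveI : Nonempty (PrimeSpectrum (ℚ ⊗[ℤ] A)) := PrimeSpectrum.instNonemptyOfNontrivial
  have hstep : ∀ c : LTSeries (PrimeSpectrum (ℚ ⊗[ℤ] A)),
      ((c.length : WithBot ℕ∞) + 1) ≤ ringKrullDim A := by
    intro c
    obtain ⟨m, hm, hle⟩ := Ideal.exists_le_maximal (f c.last).asIdeal (f c.last).2.ne_top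
    obtain ⟨p, hp, hpm⟩ := exists_prime_mem_of_isMaximal m
    have hlt : (c.map f hsm).last < (⟨m, hm.isPrime⟩ : PrimeSpectrum A) := by
      rw [LTSeries.last_map]
      refine lt_of_le_of_ne hle fun he => ?_
      have hmem : (p : A) ∈ (f c.last).asIdeal := he ▸ hpm
      have hmem' : (p : ℚ ⊗[ℤ] A) ∈ c.last.asIdeal := by
        rw [← map_natCast h]; exact hmem
      refine c.last.2.ne_top (Ideal.eq_top_of_isUnit_mem _ hmem' ?_)
      rw [← map_natCast (algebraMap ℚ (ℚ ⊗[ℤ] A))]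
      exact (isUnit_iff_ne_zero.2 (by exact_mod_cast hp.ne_zero)).map _
    refine le_trans ?_ (le_iSup (fun e : LTSeries (PrimeSpectrum A) => (e.length : WithBot ℕ∞))
      ((c.map f hsm).snoc _ hlt))
    simp
  obtain ⟨c₀⟩ : Nonempty (LTSeries (PrimeSpectrum (ℚ ⊗[ℤ] A))) :=
    ⟨RelSeries.singleton _ (Classical.arbitrary _)⟩
  by_cases hfd : FiniteDimensionalOrder (PrimeSpectrum (ℚ ⊗[ℤ] A))
  · change Order.krullDim (PrimeSpectrum (ℚ ⊗[ℤ] A)) + 1 ≤ _
    rw [Order.krullDim_eq_length_of_finiteDimensionalOrder]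
    exact hstep _
  · haveI : InfiniteDimensionalOrder (PrimeSpectrum (ℚ ⊗[ℤ] A)) :=
      (finiteDimensionalOrder_or_infiniteDimensionalOrder _).resolve_left hfd
    have htop : Order.krullDim (PrimeSpectrum A) = ⊤ :=
      Order.krullDim_eq_top_iff.2 ⟨fun n =>
        ⟨(LTSeries.withLength _ n).map f hsm, by simp⟩⟩
    change _ ≤ Order.krullDim (PrimeSpectrum A)
    rw [htop]
    exact le_top

theorem exists_bound_generic (r : ℕ) (hr : ringKrullDim A ≤ r) :
    ∃ (p₀ c d : ℕ), (d + 1 ≤ r ∨ c = 0) ∧ ∀ (F : Type*) [Field F] [Finite F],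
      p₀ < ringChar F → Finite (A →+* F) ∧ Nat.card (A →+* F) ≤ c * Nat.card F ^ d := by
  classical
  rcases subsingleton_or_nontrivial (ℚ ⊗[ℤ] A) with hB | hB
  · obtain ⟨N, hN, hNA⟩ := exists_intMul_eq_zero_of_rat A 1 (Subsingleton.elim _ _)
    refine ⟨N.natAbs, 0, 0, Or.inr rfl, fun F _ _ hF => ?_⟩
    haveI : IsEmpty (A →+* F) := ⟨fun φ => by
      have h0 := congrArg φ hNA
      rw [map_mul, map_intCast, map_one, mul_one, map_zero,
        CharP.intCast_eq_zero_iff F (ringChar F), Int.natCast_dvd] at h0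
      exact (Nat.le_of_dvd (Int.natAbs_pos.2 hN) h0).not_gt hF⟩
    exact ⟨inferInstance, by simp⟩
  have h1 := (ringKrullDim_rat_add_one_le A).trans hr
  obtain ⟨d, hd, hdr⟩ : ∃ d : ℕ, ringKrullDim (ℚ ⊗[ℤ] A) ≤ d ∧ d + 1 ≤ r := by
    have hnn := ringKrullDim_nonneg_of_nontrivial (R := ℚ ⊗[ℤ] A)
    obtain ⟨x, hx⟩ : ∃ x : ℕ∞, ringKrullDim (ℚ ⊗[ℤ] A) = x :=
      ⟨_, (WithBot.coe_unbot _ (by intro hb; rw [hb] at hnn; exact absurd hnn (by simp))).symm⟩
    rw [hx] at h1
    have h2 : x + 1 ≤ (r : ℕ∞) := by exact_mod_cast h1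
    lift x to ℕ using fun hx' => by rw [hx', top_add] at h2; exact absurd h2 (by simp)
    exact ⟨x, le_of_eq (hx.trans (by rfl)), by exact_mod_cast h2⟩
  obtain ⟨c, Ns, X, hNs, hX, h⟩ := exists_bound_of_tensor A ℚ
    (fun c => ⟨c.den, by simp [c.den_ne_zero], c.num, by
      rw [Int.cast_natCast]; exact Rat.den_mul_eq_num c⟩)
    (exists_smul_of_rat A) d hd
  choose N hN0 hN using fun x (hx : x ∈ X) => exists_intMul_eq_zero_of_rat A x (hX x hx)
  let N' : A → ℕ := fun x => if hx : x ∈ X then (N x hx).natAbs else 0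
  refine ⟨(Ns.map Int.natAbs).sum + (X.map N').sum, c, d, Or.inl hdr, fun F _ _ hF => ?_⟩
  have key : ∀ z : ℤ, z ≠ 0 → z.natAbs < ringChar F → (z : F) ≠ 0 := fun z hz hlt h0 => by
    rw [CharP.intCast_eq_zero_iff F (ringChar F), Int.natCast_dvd] at h0
    exact (Nat.le_of_dvd (Int.natAbs_pos.2 hz) h0).not_gt hlt
  refine h F (fun z hz => key z (by intro h0; exact hNs z hz (by simp [h0])) ?_) fun x hx φ => ?_
  · have := List.le_sum_of_mem (List.mem_map.2 ⟨z, hz, rfl⟩ : z.natAbs ∈ Ns.map Int.natAbs)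
    omega
  · have hlt : (N x hx).natAbs < ringChar F := by
      have := List.le_sum_of_mem (List.mem_map.2 ⟨x, hx, rfl⟩ : N' x ∈ X.map N')
      have h2 : N' x = (N x hx).natAbs := dif_pos hx
      omega
    have h0 := congrArg φ (hN x hx)
    rw [map_mul, map_intCast, map_zero, mul_eq_zero] at h0
    exact h0.resolve_left (key _ (hN0 x hx) hlt)

end Main

end Groth.Agent.ZetaPts
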