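import Mathlib

/-!
# Euler products over an arbitrary index set
-/

set_option linter.style.haveILetI false

open Filter Topology
open scoped Classical

namespace Groth.Agent.ZetaPts

variable {ι : Type*}

/-- The monomial attached to a finitely supported exponent. -/
noncomputable def mon {R : Type*} [CommMonoid R] (g : ι → R) (α : ι →₀ ℕ) : R :=
  α.prod fun x m => g x ^ m

theorem mon_add {R : Type*} [CommMonoid R] (g : ι → R) (α β : ι →₀ ℕ) :
    mon g (α + β) = mon g α * mon g β :=
  Finsupp.prod_add_index' (fun _ => pow_zero _) fun _ _ _ => pow_add _ _ _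

theorem summable_mon_real (a : ι → ℝ) (h0 : ∀ x, 0 ≤ a x) (h1 : ∀ x, a x < 1) (ha : Summable a) :
    Summable (mon a) := by
  have hb : Summable fun x => a x / (1 - a x) := by
    refine Summable.of_norm_bounded_eventually (ha.mul_left 2) ?_
    filter_upwards [(ha.tendsto_cofinite_zero).eventually (gt_mem_nhds (show (0:ℝ) < 1/2 by norm_num))]
      with x hx
    rw [Real.norm_eq_abs, abs_of_nonneg (div_nonneg (h0 x) (by linarith [h1 x])), div_le_iff₀ (by linarith [h1 x])]
    nlinarith [h0 x]
  have hb0 : ∀ x, 0 ≤ a x / (1 - a x) := fun x => div_nonneg (h0 x) (by linarith [h1 x])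
  refine summable_of_sum_le (c := Real.exp (∑' x, a x / (1 - a x)))
    (fun α => Finset.prod_nonneg fun x _ => pow_nonneg (h0 x) _) fun E => ?_
  let T := E.biUnion fun α => α.support
  let M := E.sup fun α => α.sum fun _ m => m
  have hsub : E ⊆ T.finsupp fun _ => Finset.range (M + 1) := by
    intro α hα
    rw [Finset.mem_finsupp_iff]
    refine ⟨fun x hx => Finset.mem_biUnion.2 ⟨α, hα, hx⟩, fun x _ => Finset.mem_range.2 ?_⟩
    by_cases hx : x ∈ α.support
    · have h2 : α x ≤ α.sum fun _ m => m :=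
        Finset.single_le_sum (f := fun y => α y) (fun _ _ => Nat.zero_le _) hx
      have h3 : (α.sum fun _ m => m) ≤ M := Finset.le_sup (f := fun α : ι →₀ ℕ => α.sum fun _ m => m) hα
      omega
    · rw [Finsupp.notMem_support_iff.1 hx]; omega
  refine (Finset.sum_le_sum_of_subset_of_nonneg hsub
    fun α _ _ => Finset.prod_nonneg fun x _ => pow_nonneg (h0 x) _).trans ?_
  have h3 : ∑ α ∈ T.finsupp (fun _ => Finset.range (M + 1)), mon a α =
      ∏ x ∈ T, ∑ m ∈ Finset.range (M + 1), a x ^ m := by
    rw [Finset.finsupp, Finset.sum_map, Finset.prod_sum]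
    refine Finset.sum_congr rfl fun h _ => ?_
    show (Finsupp.indicator T h).prod (fun x m => a x ^ m) = _
    rw [Finsupp.prod_of_support_subset _ (Finsupp.support_indicator_subset _ _) _
      (fun _ _ => pow_zero _), ← Finset.prod_attach T]
    refine Finset.prod_congr rfl fun x _ => ?_
    simp [Finsupp.indicator_of_mem x.2]
  refine le_trans (le_of_eq h3) ?_
  refine le_trans ?_ (Real.exp_le_exp.2 (hb.sum_le_tsum T fun x _ => hb0 x))
  rw [Real.exp_sum]
  refine Finset.prod_le_prod (fun x _ => Finset.sum_nonneg fun m _ => pow_nonneg (h0 x) _) fun x _ => ?_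
  refine le_trans ?_ (Real.add_one_le_exp _)
  have h4 : ∑ m ∈ Finset.range (M + 1), a x ^ m ≤ (1 - a x)⁻¹ := by
    rw [← tsum_geometric_of_lt_one (h0 x) (h1 x)]
    exact (summable_geometric_of_lt_one (h0 x) (h1 x)).sum_le_tsum _ fun m _ => pow_nonneg (h0 x) _
  refine h4.trans (le_of_eq ?_)
  have : 1 - a x ≠ 0 := by linarith [h1 x]
  field_simp
  ring

theorem norm_mon (g : ι → ℂ) (α : ι →₀ ℕ) : ‖mon g α‖ = mon (fun x => ‖g x‖) α := by
  simp [mon, Finsupp.prod]

theorem summable_norm_mon (g : ι → ℂ) (hg1 : ∀ x, ‖g x‖ < 1) (hg : Summable fun x => ‖g x‖) :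
    Summable fun α => ‖mon g α‖ := by
  simpa only [norm_mon] using summable_mon_real _ (fun x => norm_nonneg (g x)) hg1 hg

theorem indicator_sdiff_apply {α : Type*} {s t : Set α} (h : s ⊆ t) (f : α → ℂ) (a : α) :
    (t \ s).indicator f a = t.indicator f a - s.indicator f a := by
  by_cases hs : a ∈ s
  · simp [hs, h hs]
  · by_cases ht : a ∈ t <;> simp [hs, ht]

theorem tsum_mon_ne_zero (g : ι → ℂ) (hg1 : ∀ x, ‖g x‖ < 1) (hg : Summable fun x => ‖g x‖) :
    ∑' α, mon g α ≠ 0 := by
  have hn := summable_norm_mon g hg1 hg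
  have hs : Summable (mon g) := hn.of_norm
  let Z : Finset ι → Set (ι →₀ ℕ) := fun T => {α | ∀ x ∈ T, α x = 0}
  let F : Finset ι → ℂ := fun T => ∑' α, (Z T).indicator (mon g) α
  have hstep : ∀ T x, x ∉ T → F (insert x T) = (1 - g x) * F T := by
    intro T x hx
    have h1 : F T - F (insert x T) = ∑' α, (Z T \ Z (insert x T)).indicator (mon g) α := by
      rw [← (hs.indicator (Z T)).tsum_sub (hs.indicator (Z (insert x T)))]
      refine tsum_congr fun α => ?_
      have hsub : Z (insert x T) ⊆ Z T := fun β hβ y hy => hβ y (Finset.mem_insert_of_mem hy)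
      exact (indicator_sdiff_apply hsub _ _).symm
    have hinj : Function.Injective fun β : ι →₀ ℕ => β + Finsupp.single x 1 :=
      add_left_injective _
    have h2 : ∑' α, (Z T \ Z (insert x T)).indicator (mon g) α = g x * F T := by
      rw [← hinj.tsum_eq (f := (Z T \ Z (insert x T)).indicator (mon g)) ?_, ← tsum_mul_left]
      · refine tsum_congr fun β => ?_
        by_cases hβ : β ∈ Z T
        · have : β + Finsupp.single x 1 ∈ Z T \ Z (insert x T) := by
            refine ⟨fun y hy => ?_, fun h => ?_⟩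
            · have hyx : y ≠ x := fun h => hx (h ▸ hy)
              simp [hβ y hy, Finsupp.single_eq_of_ne hyx]
            · have := h x (Finset.mem_insert_self _ _)
              simp at this
          rw [Set.indicator_of_mem this, Set.indicator_of_mem hβ, mon_add]
          rw [mul_comm]
          congr 1
          simp [mon, Finsupp.prod_single_index]
        · have : β + Finsupp.single x 1 ∉ Z T \ Z (insert x T) := fun h => hβ fun y hy => by
            have h5 : β y + Finsupp.single x 1 y = 0 := h.1 y hy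
            omega
          rw [Set.indicator_of_notMem this, Set.indicator_of_notMem hβ, mul_zero]
      · intro α hα
        have hmem := Set.mem_of_indicator_ne_zero hα
        have hαx : α x ≠ 0 := fun h0 => hmem.2 fun y hy => by
          rcases Finset.mem_insert.1 hy with rfl | hy
          · exact h0
          · exact hmem.1 y hy
        refine ⟨α - Finsupp.single x 1, tsub_add_cancel_of_le (Finsupp.single_le_iff.2 ?_)⟩
        omega
    linear_combination (-1 : ℂ) * (h1.trans h2)
  have hprod : ∀ T, F T = (∏ x ∈ T, (1 - g x)) * F ∅ := by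
    intro T
    induction T using Finset.induction_on with
    | empty => simp
    | insert x T hx ih => rw [hstep T x hx, ih, Finset.prod_insert hx, mul_assoc]
  have h0 : F ∅ = ∑' α, mon g α := by simp [F, Z]
  obtain ⟨E, hE⟩ := ((tendsto_tsum_compl_atTop_zero fun α => ‖mon g α‖).eventually
    (gt_mem_nhds one_pos)).exists
  let T := E.biUnion fun α => α.support
  intro hzero
  have hFT : F T = 0 := by rw [hprod, h0, hzero, mul_zero]
  have h01 : (1 : ℂ) = ∑' α, ({0} : Set (ι →₀ ℕ)).indicator (mon g) α := by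
    rw [tsum_eq_single 0 fun α hα => Set.indicator_of_notMem (by simp [hα]) _,
      Set.indicator_of_mem (Set.mem_singleton 0)]
    simp [mon]
  have hdiff : F T - 1 = ∑' α, (Z T \ {0}).indicator (mon g) α := by
    rw [h01, ← (hs.indicator _).tsum_sub (hs.indicator _)]
    refine tsum_congr fun α => ?_
    exact (indicator_sdiff_apply (Set.singleton_subset_iff.2 (show (0 : ι →₀ ℕ) ∈ Z T from fun x _ => rfl)) _ _).symm
  have hsub : Z T \ {0} ⊆ {α | α ∉ E} := fun α hα hαE => hα.2 <| by
    ext x
    by_cases hx : x ∈ α.support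
    · exact hα.1 x (Finset.mem_biUnion.2 ⟨α, hαE, hx⟩)
    · exact Finsupp.notMem_support_iff.1 hx
  have hle : ‖F T - 1‖ ≤ ∑' α : {α // α ∉ E}, ‖mon g α.1‖ := by
    rw [hdiff, ← tsum_subtype]
    refine (norm_tsum_le_tsum_norm (hn.subtype _)).trans ?_
    exact Summable.tsum_le_tsum_of_inj (Set.inclusion hsub) (Set.inclusion_injective hsub)
      (fun _ _ => norm_nonneg _) (fun _ => le_rfl) (hn.subtype _) (hn.subtype _)
  rw [hFT, zero_sub, norm_neg, norm_one] at hle
  exact (lt_of_le_of_lt hle hE).false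

theorem hasSum_fiber {ψ : ℕ →* ℂ} (hψ : ∀ n, n ≠ 0 → ψ n ≠ 0) (C : Set ι) (N : ι → ℕ)
    (hN : ∀ x ∈ C, 2 ≤ N x) (h1 : ∀ x ∈ C, ‖ψ (N x)‖ < 1)
    (hsum : Summable fun x : C => ‖ψ (N x)‖) :
    ∃ L : ℂ, L ≠ 0 ∧ HasSum (fun n : ℕ =>
      (Nat.card {α : ι →₀ ℕ // (∀ x ∈ α.support, x ∈ C) ∧ α.prod (fun x m => N x ^ m) = n} : ℂ) * ψ n) L := by
  let g : ι → ℂ := C.indicator fun x => ψ (N x)
  have hg1 : ∀ x, ‖g x‖ < 1 := fun x => by
    by_cases hx : x ∈ C
    · simpa [g, Set.indicator_of_mem hx] using h1 x hx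
    · simp [g, Set.indicator_of_notMem hx]
  have hg : Summable fun x => ‖g x‖ := by
    have : (fun x => ‖g x‖) = C.indicator fun x => ‖ψ (N x)‖ := funext fun x => by
      by_cases hx : x ∈ C <;> simp [g, hx]
    rw [this]
    exact summable_subtype_iff_indicator.1 hsum
  have hs : Summable (mon g) := (summable_norm_mon g hg1 hg).of_norm
  let S : Set (ι →₀ ℕ) := {α | ∀ x ∈ α.support, x ∈ C}
  have hsupp : Function.support (mon g) ⊆ S := fun α hα x hx => by
    by_contra hc
    exact hα (Finset.prod_eq_zero hx (by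
      simp [g, Set.indicator_of_notMem hc, Finsupp.mem_support_iff.1 hx]))
  let P : S → ℕ := fun α => α.1.prod fun x m => N x ^ m
  have hval : ∀ α : S, mon g α.1 = ψ (P α) := fun α => by
    simp only [mon, P, map_finsuppProd, map_pow]
    exact Finset.prod_congr rfl fun x hx => by simp [g, Set.indicator_of_mem (α.2 x hx)]
  have hS : HasSum (fun α : S => ψ (P α)) (∑' α, mon g α) := by
    have := (hasSum_subtype_iff_of_support_subset hsupp).2 hs.hasSum
    exact this.congr_fun fun α => (hval α).symm
  refine ⟨_, tsum_mon_ne_zero g hg1 hg, ?_⟩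
  have h2 := (Equiv.sigmaFiberEquiv P).hasSum_iff.2 hS
  have h0 : ∀ α : S, P α ≠ 0 := fun α => Finset.prod_ne_zero_iff.2 fun x hx =>
    pow_ne_zero _ (by have := hN x (α.2 x hx); omega)
  refine h2.sigma fun n => ?_
  have hfin : Finite {α : S // P α = n} := by
    by_contra hinf
    haveI : Infinite {α : S // P α = n} := not_finite_iff_infinite.1 hinf
    have hc : Summable fun _ : {α : S // P α = n} => ψ n := by
      refine ((h2.summable.comp_injective (sigma_mk_injective (i := n))).congr fun α => ?_)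
      show ψ (P α.1) = ψ n
      rw [α.2]
    obtain ⟨α⟩ : Nonempty {α : S // P α = n} := Infinite.nonempty _
    exact hψ n (α.2 ▸ h0 α.1) ((summable_const_iff (ψ n)).1 hc)
  haveI := Fintype.ofFinite {α : S // P α = n}
  suffices h : ∑ α : {α : S // P α = n}, ψ (P α.1) =
      (Nat.card {α : ι →₀ ℕ // (∀ x ∈ α.support, x ∈ C) ∧ α.prod (fun x m => N x ^ m) = n} : ℂ) * ψ n by
    rw [← h]
    exact hasSum_fintype (fun α : {α : S // P α = n} => ψ (P α.1))
  rw [Finset.sum_congr rfl (g := fun _ => ψ n) (fun α _ => by rw [α.2]), Finset.sum_const,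
    Finset.card_univ, nsmul_eq_mul]
  congr 2
  rw [← Nat.card_eq_fintype_card]
  exact Nat.card_congr (Equiv.subtypeSubtypeEquivSubtypeInter (fun α => α ∈ S)
    (fun α : ι →₀ ℕ => (α.prod fun x m => N x ^ m) = n))

end Groth.Agent.ZetaPts
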