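import Mathlib
import Groth.Agent.ZetaPts.Alg

/-!
# Point counts of schemes of finite type over `ℤ`
-/

set_option linter.style.haveILetI false

universe u

open CategoryTheory AlgebraicGeometry

namespace Groth.Agent.ZetaPts

variable {X : Scheme.{u}} (f : X ⟶ Spec (CommRingCat.of (ULift.{u} ℤ)))

theorem finiteType_int_of_hom {A : CommRingCat.{u}}
    (g : Spec A ⟶ Spec (CommRingCat.of (ULift.{u} ℤ))) [LocallyOfFiniteType g] :
    Algebra.FiniteType ℤ A := by
  obtain ⟨φ, rfl⟩ := Spec.map_surjective g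
  have h1 : φ.hom.FiniteType := (HasRingHomProperty.Spec_iff (P := @LocallyOfFiniteType)).1 ‹_›
  have h2 : (φ.hom.comp (ULift.ringEquiv.{0, u} (R := ℤ)).symm.toRingHom).FiniteType :=
    h1.comp (RingHom.FiniteType.of_surjective _ (RingEquiv.surjective _))
  rw [← RingHom.finiteType_algebraMap (A := ℤ) (B := A)]
  convert h2 using 1
  exact Subsingleton.elim _ _

theorem finite_residueField_of_isClosed [LocallyOfFiniteType f] {x : X}
    (hx : IsClosed ({x} : Set X)) : Finite (X.residueField x) := by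
  haveI : IsClosedImmersion (X.fromSpecResidueField x) := isClosed_singleton_iff_isClosedImmersion.1 hx
  haveI := finiteType_int_of_hom (X.fromSpecResidueField x ≫ f)
  haveI : (⊥ : Ideal (X.residueField x)).IsMaximal := Ideal.bot_isMaximal
  haveI := finite_residue_of_isMaximal (⊥ : Ideal (X.residueField x))
  exact Finite.of_equiv _ (RingEquiv.quotientBot (X.residueField x)).toEquiv

/-- The point count. -/
noncomputable def homCount (X : Scheme.{u}) (F : Type u) [Field F] : ℕ :=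
  Nat.card (Spec (CommRingCat.of F) ⟶ X)

theorem finite_and_homCount_le (𝒰 : X.OpenCover) [Finite 𝒰.I₀] [∀ i, IsAffine (𝒰.X i)]
    (F : Type u) [Field F] [Finite F]
    (n : 𝒰.I₀ → ℕ)
    (h : ∀ i, Finite (Γ(𝒰.X i, ⊤) →+* F) ∧ Nat.card (Γ(𝒰.X i, ⊤) →+* F) ≤ n i) :
    Finite (Spec (CommRingCat.of F) ⟶ X) ∧
      homCount X F ≤ ∑ᶠ i, n i := by
  haveI : ∀ i, Finite (Γ(𝒰.X i, ⊤) →+* F) := fun i => (h i).1
  let Φ : (Σ i, (Γ(𝒰.X i, ⊤) →+* F)) → (Spec (CommRingCat.of F) ⟶ X) :=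
    fun z => Spec.map (CommRingCat.ofHom z.2) ≫ (𝒰.X z.1).isoSpec.inv ≫ 𝒰.f z.1
  have hΦ : Function.Surjective Φ := by
    intro g
    obtain ⟨i, y, hy⟩ := 𝒰.exists_eq (g (IsLocalRing.closedPoint F))
    have hrange : Set.range g ⊆ Set.range (𝒰.f i) := by
      rintro _ ⟨z, rfl⟩
      exact ⟨y, by rw [hy, Subsingleton.elim z (IsLocalRing.closedPoint F)]⟩
    let g' := IsOpenImmersion.lift (𝒰.f i) g hrange
    refine ⟨⟨i, (Spec.preimage (g' ≫ (𝒰.X i).isoSpec.hom)).hom⟩, ?_⟩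
    show Spec.map (CommRingCat.ofHom (Spec.preimage (g' ≫ (𝒰.X i).isoSpec.hom)).hom) ≫ _ = g
    rw [CommRingCat.ofHom_hom, Spec.map_preimage, Category.assoc, Iso.hom_inv_id_assoc,
      IsOpenImmersion.lift_fac]
  haveI := Fintype.ofFinite 𝒰.I₀
  refine ⟨Finite.of_surjective Φ hΦ, (Nat.card_le_card_of_surjective Φ hΦ).trans ?_⟩
  rw [Nat.card_sigma, finsum_eq_sum_of_fintype]
  exact Finset.sum_le_sum fun i _ => (h i).2

theorem finiteType_cover [LocallyOfFiniteType f] (𝒰 : X.OpenCover) [∀ i, IsAffine (𝒰.X i)] (i : 𝒰.I₀) :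
    Algebra.FiniteType ℤ Γ(𝒰.X i, ⊤) :=
  finiteType_int_of_hom ((𝒰.X i).isoSpec.inv ≫ 𝒰.f i ≫ f)

theorem dim_cover {r : WithBot ℕ∞} (hr : topologicalKrullDim X ≤ r) (𝒰 : X.OpenCover)
    [∀ i, IsAffine (𝒰.X i)] (i : 𝒰.I₀) : ringKrullDim Γ(𝒰.X i, ⊤) ≤ r := by
  rw [← PrimeSpectrum.topologicalKrullDim_eq_ringKrullDim]
  exact (((𝒰.X i).isoSpec.inv ≫ 𝒰.f i).isOpenEmbedding.isInducing.topologicalKrullDim_le).trans hr

theorem exists_bound_all [LocallyOfFiniteType f] [QuasiCompact f] (r : ℕ)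
    (hr : topologicalKrullDim X ≤ r) (p : ℕ) [Fact p.Prime] :
    ∃ c : ℕ, ∀ (F : Type u) [Field F] [Finite F] [CharP F p],
      Finite (Spec (CommRingCat.of F) ⟶ X) ∧ homCount X F ≤ c * Nat.card F ^ r := by
  haveI : CompactSpace X := QuasiCompact.compactSpace_of_compactSpace f
  let 𝒰 := X.affineCover.finiteSubcover
  choose c hc using fun i => by
    haveI := finiteType_cover f 𝒰 i
    exact exists_bound_charP.{u, u} Γ(𝒰.X i, ⊤) p r (dim_cover hr 𝒰 i)
  haveI := Fintype.ofFinite 𝒰.I₀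
  refine ⟨∑ i, c i, fun F _ _ _ => ?_⟩
  obtain ⟨h1, h2⟩ := finite_and_homCount_le 𝒰 F (fun i => c i * Nat.card F ^ r) fun i => hc i F
  refine ⟨h1, h2.trans ?_⟩
  rw [finsum_eq_sum_of_fintype, Finset.sum_mul]

theorem exists_bound_large [LocallyOfFiniteType f] [QuasiCompact f] (r : ℕ)
    (hr : topologicalKrullDim X ≤ r) :
    ∃ (p₀ c : ℕ), ∀ (F : Type u) [Field F] [Finite F], p₀ < ringChar F →
      Finite (Spec (CommRingCat.of F) ⟶ X) ∧
        homCount X F * Nat.card F ≤ c * Nat.card F ^ r := by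
  haveI : CompactSpace X := QuasiCompact.compactSpace_of_compactSpace f
  let 𝒰 := X.affineCover.finiteSubcover
  choose p₀ c d hd hc using fun i => by
    haveI := finiteType_cover f 𝒰 i
    exact exists_bound_generic.{u, u} Γ(𝒰.X i, ⊤) r (dim_cover hr 𝒰 i)
  haveI := Fintype.ofFinite 𝒰.I₀
  refine ⟨∑ i, p₀ i, ∑ i, c i, fun F _ _ hF => ?_⟩
  obtain ⟨h1, h2⟩ := finite_and_homCount_le 𝒰 F (fun i => c i * Nat.card F ^ d i) fun i => hc i F
    (lt_of_le_of_lt (Finset.single_le_sum (fun j _ => Nat.zero_le _) (Finset.mem_univ i)) hF)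
  refine ⟨h1, (Nat.mul_le_mul_right _ h2).trans ?_⟩
  rw [finsum_eq_sum_of_fintype, Finset.sum_mul, Finset.sum_mul]
  refine Finset.sum_le_sum fun i _ => ?_
  rcases hd i with hd | hd
  · rw [mul_assoc, ← pow_succ]
    exact Nat.mul_le_mul_left _ (Nat.pow_le_pow_right Nat.card_pos hd)
  · simp [hd]

/-- Uniform estimate: `#X(F_q) · q ≤ c · q^r` for large characteristic, `#X(F_q) ≤ c q^r` always. -/
theorem exists_bounds [LocallyOfFiniteType f] [QuasiCompact f] (r : ℕ)
    (hr : topologicalKrullDim X ≤ r) :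
    ∃ (p₀ c : ℕ), 0 < c ∧ ∀ (F : Type u) [Field F] [Finite F],
      Finite (Spec (CommRingCat.of F) ⟶ X) ∧ homCount X F ≤ c * Nat.card F ^ r ∧
        (p₀ < ringChar F → homCount X F * Nat.card F ≤ c * Nat.card F ^ r) := by
  obtain ⟨p₀, c, hc⟩ := exists_bound_large f r hr
  choose cp hcp using fun (p : ℕ) (hp : p.Prime) =>
    haveI := Fact.mk hp
    exists_bound_all f r hr p
  let cp' : ℕ → ℕ := fun p => if hp : p.Prime then cp p hp else 0
  refine ⟨p₀, c + ∑ p ∈ Finset.range (p₀ + 1), cp' p + 1, Nat.succ_pos _, fun F _ _ => ?_⟩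
  haveI : Fintype F := Fintype.ofFinite F
  obtain ⟨p, hp⟩ := CharP.exists F
  have hpr : p.Prime := (CharP.char_is_prime_or_zero F p).resolve_right fun h0 => by
    subst h0
    haveI := CharP.charP_to_charZero F
    exact (not_finite F)
  have hpeq : ringChar F = p := ringChar.eq F p
  by_cases hle : p ≤ p₀
  · obtain ⟨h1, h2⟩ := hcp p hpr F
    refine ⟨h1, h2.trans (Nat.mul_le_mul_right _ ?_), fun h => absurd h (by omega)⟩
    have := Finset.single_le_sum (f := cp') (fun j _ => Nat.zero_le _)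
      (Finset.mem_range.2 (show p < p₀ + 1 by omega))
    have h4 : cp' p = cp p hpr := dif_pos hpr
    omega
  · obtain ⟨h1, h2⟩ := hc F (by omega)
    have h3 : homCount X F * Nat.card F ≤ (c + ∑ p ∈ Finset.range (p₀ + 1), cp' p + 1) * Nat.card F ^ r :=
      h2.trans (Nat.mul_le_mul_right _ (by omega))
    exact ⟨h1, (Nat.le_mul_of_pos_right _ Nat.card_pos).trans h3, fun _ => h3⟩

theorem card_closedPoints_le [LocallyOfFiniteType f] (F : Type u) [Field F] [Finite F]
    [Finite (Spec (CommRingCat.of F) ⟶ X)] :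
    Finite {x : X // IsClosed ({x} : Set X) ∧ Nat.card (X.residueField x) = Nat.card F} ∧
      Nat.card {x : X // IsClosed ({x} : Set X) ∧ Nat.card (X.residueField x) = Nat.card F}
        ≤ homCount X F := by
  classical
  haveI : Fintype F := Fintype.ofFinite F
  have e : ∀ x : {x : X // IsClosed ({x} : Set X) ∧ Nat.card (X.residueField x) = Nat.card F},
      Nonempty (X.residueField x.1 ≃+* F) := fun x => by
    haveI := finite_residueField_of_isClosed f x.2.1
    haveI := Fintype.ofFinite (X.residueField x.1)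
    exact ⟨FiniteField.ringEquivOfCardEq (by
      rw [← Nat.card_eq_fintype_card, ← Nat.card_eq_fintype_card]; exact x.2.2)⟩
  let Φ : {x : X // IsClosed ({x} : Set X) ∧ Nat.card (X.residueField x) = Nat.card F} →
      (Spec (CommRingCat.of F) ⟶ X) := fun x =>
    (Scheme.SpecToEquivOfField F X).symm ⟨x.1, CommRingCat.ofHom (e x).some.toRingHom⟩
  have hΦ : Function.Injective Φ := fun x y h =>
    Subtype.ext (congrArg Sigma.fst ((Scheme.SpecToEquivOfField F X).symm.injective h))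
  exact ⟨Finite.of_injective Φ hΦ, Nat.card_le_card_of_injective Φ hΦ⟩

end Groth.Agent.ZetaPts
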