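import Mathlib
import Groth.Prelude.Def_W4c1zetahwZeta
import Groth.Agent.ZetaPts.Scheme
import Groth.Agent.ZetaPts.Euler

/-!
# Convergence of the zeta series of an arithmetic scheme
-/

set_option linter.style.haveILetI false

universe u

open CategoryTheory AlgebraicGeometry

namespace Groth.Agent.ZetaPts

variable {X : Scheme.{u}} (f : X ⟶ Spec (CommRingCat.of (ULift.{u} ℤ)))

theorem summable_pow_rpow {p : ℕ} (hp : 2 ≤ p) (e : ℝ) (he : e < 0) :
    Summable ((Set.range fun m : ℕ => p ^ m).indicator fun n => (n : ℝ) ^ e) := by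
  have hinj : Function.Injective fun m : ℕ => p ^ m := Nat.pow_right_injective hp
  refine (hinj.summable_iff fun n hn => Set.indicator_of_notMem hn _).1 ?_
  have hlt : (p : ℝ) ^ e < 1 :=
    Real.rpow_lt_one_of_one_lt_of_neg (by exact_mod_cast hp) he
  refine (summable_geometric_of_lt_one (Real.rpow_nonneg (Nat.cast_nonneg p) e) hlt).congr fun m => ?_
  rw [Function.comp_apply, Set.indicator_of_mem (Set.mem_range_self m), Nat.cast_pow, ← Real.rpow_natCast, ← Real.rpow_natCast,
    ← Real.rpow_mul (Nat.cast_nonneg p), ← Real.rpow_mul (Nat.cast_nonneg p), mul_comm]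

/-- The residue cardinality. -/
noncomputable def resCard (X : Scheme.{u}) (x : X) : ℕ := Nat.card (X.residueField x)

theorem two_le_resCard [LocallyOfFiniteType f] {x : X} (hx : IsClosed ({x} : Set X)) :
    2 ≤ resCard X x := by
  haveI := finite_residueField_of_isClosed f hx
  exact Finite.one_lt_card

theorem summable_closedPoints [LocallyOfFiniteType f] [QuasiCompact f] (r : ℕ)
    (hr : topologicalKrullDim X ≤ r) (σ : ℝ) (hσ : (r : ℝ) < σ) :
    Summable fun x : {x : X | IsClosed ({x} : Set X)} => (resCard X x.1 : ℝ) ^ (-σ) := by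
  classical
  obtain ⟨p₀, c, hc, hb⟩ := exists_bounds f r hr
  let C : Set X := {x : X | IsClosed ({x} : Set X)}
  let N : C → ℕ := fun x => resCard X x.1
  let G : Finset ℕ := (Finset.range (p₀ + 1)).filter fun p => 2 ≤ p
  let D : ℕ → ℝ := fun n => c * ((n : ℝ) ^ ((r : ℝ) - 1 - σ) +
    ∑ p ∈ G, (Set.range fun m : ℕ => p ^ m).indicator (fun k => (k : ℝ) ^ ((r : ℝ) - σ)) n)
  have hD : Summable D := by
    refine Summable.mul_left _ (Summable.add (Real.summable_nat_rpow.2 (by linarith)) ?_)
    exact summable_sum fun p hp => summable_pow_rpow (Finset.mem_filter.1 hp).2 _ (by linarith)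
  have hfib : ∀ n, Finite {x : C // N x = n} ∧
      (Nat.card {x : C // N x = n} : ℝ) * (n : ℝ) ^ (-σ) ≤ D n := by
    intro n
    have hD0 : 0 ≤ D n := mul_nonneg (Nat.cast_nonneg _) (add_nonneg (Real.rpow_nonneg (Nat.cast_nonneg _) _)
      (Finset.sum_nonneg fun p _ => Set.indicator_nonneg (fun k _ => Real.rpow_nonneg (Nat.cast_nonneg _) _) _))
    rcases isEmpty_or_nonempty {x : C // N x = n} with he | ⟨⟨x₀, hx₀⟩⟩
    · exact ⟨inferInstance, by simp [hD0]⟩
    haveI := finite_residueField_of_isClosed f x₀.2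
    let F : Type u := X.residueField x₀.1
    haveI : Finite F := ‹_›
    obtain ⟨h1, h2, h3⟩ := hb F
    obtain ⟨h4, h5⟩ := card_closedPoints_le f F
    let e : {x : C // N x = n} ≃
        {x : X // IsClosed ({x} : Set X) ∧ Nat.card (X.residueField x) = Nat.card F} :=
      (Equiv.subtypeSubtypeEquivSubtypeInter (fun x : X => IsClosed ({x} : Set X))
        (fun x : X => resCard X x = n)).trans (Equiv.subtypeEquivRight fun x => by
          rw [show Nat.card F = n from hx₀]; rfl)
    refine ⟨Finite.of_equiv _ e.symm, ?_⟩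
    rw [Nat.card_congr e]
    set K := Nat.card {x : X // IsClosed ({x} : Set X) ∧ Nat.card (X.residueField x) = Nat.card F}
    have hF : Nat.card F = n := hx₀
    have hn : (0 : ℝ) < n := by
      rw [← hF]; exact_mod_cast Nat.card_pos
    obtain ⟨p, hp⟩ := CharP.exists F
    haveI : Fintype F := Fintype.ofFinite F
    obtain ⟨m, hpp, hcard⟩ := FiniteField.card F p
    have hpow : n = p ^ (m : ℕ) := by rw [← hF, Nat.card_eq_fintype_card, hcard]
    rcases le_or_gt p p₀ with hle | hlt
    · have hmem : p ∈ G := Finset.mem_filter.2 ⟨Finset.mem_range.2 (by omega), hpp.two_le⟩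
      have hK : (K : ℝ) ≤ c * (n : ℝ) ^ r := by
        have := h5.trans h2
        rw [hF] at this
        exact_mod_cast this
      calc (K : ℝ) * (n : ℝ) ^ (-σ) ≤ c * (n : ℝ) ^ r * (n : ℝ) ^ (-σ) :=
            mul_le_mul_of_nonneg_right hK (Real.rpow_nonneg hn.le _)
        _ = c * (n : ℝ) ^ ((r : ℝ) - σ) := by
            rw [mul_assoc, ← Real.rpow_natCast, ← Real.rpow_add hn, ← sub_eq_add_neg]
        _ ≤ D n := by
            refine mul_le_mul_of_nonneg_left (le_add_of_nonneg_of_le (Real.rpow_nonneg hn.le _) ?_)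
              (Nat.cast_nonneg _)
            refine le_trans (le_of_eq ?_) (Finset.single_le_sum (fun q _ => Set.indicator_nonneg
              (fun k _ => Real.rpow_nonneg (Nat.cast_nonneg _) _) _) hmem)
            rw [Set.indicator_of_mem (Set.mem_range.2 ⟨(m : ℕ), hpow.symm⟩)]
    · have hK : (K : ℝ) * n ≤ c * (n : ℝ) ^ r := by
        have := (Nat.mul_le_mul_right (Nat.card F) h5).trans (h3 (by rw [ringChar.eq F p]; exact hlt))
        rw [hF] at this
        exact_mod_cast this
      calc (K : ℝ) * (n : ℝ) ^ (-σ) = K * n * (n : ℝ) ^ (-1 - σ) := by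
            rw [mul_assoc]; nth_rw 2 [← Real.rpow_one (n : ℝ)]
            rw [← Real.rpow_add hn]; ring_nf
        _ ≤ c * (n : ℝ) ^ r * (n : ℝ) ^ (-1 - σ) :=
            mul_le_mul_of_nonneg_right hK (Real.rpow_nonneg hn.le _)
        _ = c * (n : ℝ) ^ ((r : ℝ) - 1 - σ) := by
            rw [mul_assoc, ← Real.rpow_natCast, ← Real.rpow_add hn]; ring_nf
        _ ≤ D n := mul_le_mul_of_nonneg_left (le_add_of_nonneg_right (Finset.sum_nonneg fun q _ =>
            Set.indicator_nonneg (fun k _ => Real.rpow_nonneg (Nat.cast_nonneg _) _) _)) (Nat.cast_nonneg _)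
  refine (Equiv.sigmaFiberEquiv N).summable_iff.1 ?_
  refine (summable_sigma_of_nonneg fun z => Real.rpow_nonneg (Nat.cast_nonneg _) _).2
    ⟨fun n => haveI := (hfib n).1; Summable.of_finite, Summable.of_nonneg_of_le
      (fun n => tsum_nonneg fun z => Real.rpow_nonneg (Nat.cast_nonneg _) _) (fun n => ?_) hD⟩
  haveI := (hfib n).1
  haveI := Fintype.ofFinite {x : C // N x = n}
  rw [tsum_fintype, Finset.sum_congr rfl (g := fun _ => (n : ℝ) ^ (-σ)) fun z _ => by
      show ((N z.1 : ℕ) : ℝ) ^ (-σ) = _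
      rw [z.2],
    Finset.sum_const, Finset.card_univ, nsmul_eq_mul, ← Nat.card_eq_fintype_card]
  exact (hfib n).2

/-- `n ↦ n^(-s)` as a monoid homomorphism. -/
noncomputable def cpowHom (s : ℂ) : ℕ →* ℂ where
  toFun n := (n : ℂ) ^ (-s)
  map_one' := by simp
  map_mul' a b := by rw [Nat.cast_mul, Complex.natCast_mul_natCast_cpow]

theorem lseries_summable_ne_zero [LocallyOfFiniteType f] [QuasiCompact f] (r : ℕ)
    (hr : topologicalKrullDim X ≤ r) (s : ℂ) (hs : (r : ℝ) < s.re) :
    LSeriesSummable (Zeta.arithCoeff X) s ∧ LSeries (Zeta.arithCoeff X) s ≠ 0 := by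
  classical
  let C : Set X := {x : X | IsClosed ({x} : Set X)}
  have hpos : 0 < s.re := lt_of_le_of_lt (Nat.cast_nonneg r) hs
  have hnorm : ∀ n : ℕ, n ≠ 0 → ‖cpowHom s n‖ = (n : ℝ) ^ (-s.re) := fun n hn => by
    show ‖(n : ℂ) ^ (-s)‖ = _
    rw [Complex.norm_natCast_cpow_of_pos (Nat.pos_of_ne_zero hn), Complex.neg_re]
  obtain ⟨L, hL, hsum⟩ := hasSum_fiber (ψ := cpowHom s)
    (fun n hn => by
      intro h0
      have := hnorm n hn
      rw [h0, norm_zero] at this
      exact (Real.rpow_pos_of_pos (by positivity) _).ne this)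
    C (resCard X) (fun x hx => two_le_resCard f hx)
    (fun x hx => by
      have h2 := two_le_resCard f hx
      rw [hnorm _ (by omega)]
      exact Real.rpow_lt_one_of_one_lt_of_neg (by exact_mod_cast h2) (by linarith))
    ((summable_closedPoints f r hr s.re hs).congr fun x => by
      have h2 := two_le_resCard f x.2
      rw [hnorm _ (by omega)])
  have hterm : LSeries.term (Zeta.arithCoeff X) s = fun n : ℕ =>
      (Nat.card {α : X →₀ ℕ // (∀ x ∈ α.support, x ∈ C) ∧ α.prod (fun x m => resCard X x ^ m) = n} : ℂ) *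
        cpowHom s n := by
    funext n
    rcases eq_or_ne n 0 with rfl | hn
    · rw [LSeries.term_zero]
      have : ((0 : ℕ) : ℂ) ^ (-s) = 0 := by
        rw [Nat.cast_zero, Complex.zero_cpow]
        simp only [ne_eq, neg_eq_zero]
        intro h0
        rw [h0, Complex.zero_re] at hpos
        exact lt_irrefl _ hpos
      show (0 : ℂ) = _ * ((0 : ℕ) : ℂ) ^ (-s)
      rw [this, mul_zero]
    · rw [LSeries.term_of_ne_zero hn, div_eq_mul_inv, ← Complex.cpow_neg]
      rfl
  constructor
  · show Summable _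
    rw [hterm]
    exact hsum.summable
  · show ∑' n, LSeries.term (Zeta.arithCoeff X) s n ≠ 0
    rw [hterm, hsum.tsum_eq]
    exact hL

theorem abscissa_le_and_ne_zero [LocallyOfFiniteType f] [QuasiCompact f] (r : ℕ)
    (hr : topologicalKrullDim X ≤ r) :
    LSeries.abscissaOfAbsConv (Zeta.arithCoeff X) ≤ (r : ℝ) ∧
      ∀ s : ℂ, (r : ℝ) < s.re → LSeries (Zeta.arithCoeff X) s ≠ 0 :=
  ⟨LSeries.abscissaOfAbsConv_le_of_forall_lt_LSeriesSummable fun y hy =>
      (lseries_summable_ne_zero f r hr y (by simpa using hy)).1,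
    fun s hs => (lseries_summable_ne_zero f r hr s hs).2⟩

end Groth.Agent.ZetaPts
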